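import Groth.Agent.Lib.HodgeIndex.IdealMul
import Groth.Agent.Lib.HodgeIndex.IdealLe
import Groth.Agent.Lib.OX.Exact

/-!
# The Mayer–Vietoris sequence of two ideal sheaves; twisting an ideal by an invertible one
-/

set_option autoImplicit false
set_option backward.isDefEq.respectTransparency false
set_option linter.all false

universe u

open CategoryTheory CategoryTheory.Limits AlgebraicGeometry TopologicalSpace

noncomputable section

namespace GrothLib.IdealMV12

open GrothLib.QCoh (stalkLin)
open GrothLib.OmegaBC (sval)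
open GrothLib.HodgeIndex (idealIncl)

variable {X : Scheme.{u}}

theorem idealIncl_ι {I J : X.IdealSheafData} (h : I ≤ J) :
    idealIncl h ≫ ClSub.idealModι J = ClSub.idealModι I := kernel.lift_ι _ _ _

theorem sval_incl {I J : X.IdealSheafData} (h : I ≤ J) (x : X) (a : (OX.stalk x).obj (ClSub.idealMod I)) :
    sval J x ((OX.stalk x).map (idealIncl h) a) = sval I x a := by
  show (OmegaBC.ouni x).symm ((OX.stalk x).map (ClSub.idealModι J) ((OX.stalk x).map (idealIncl h) a)) = _
  rw [← ConcreteCategory.comp_apply, ← Functor.map_comp, idealIncl_ι]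
  rfl

theorem st_inf (I J : X.IdealSheafData) (x : X) :
    Goodman.st (I ⊓ J) x = Goodman.st I x ⊓ Goodman.st J x := by
  obtain ⟨V, hV, hxV, -⟩ := exists_isAffineOpen_mem_and_subset (show x ∈ (⊤ : X.Opens) from trivial)
  rw [Goodman.st_eq _ ⟨V, hV⟩ hxV, Goodman.st_eq _ ⟨V, hV⟩ hxV, Goodman.st_eq _ ⟨V, hV⟩ hxV,
    Scheme.IdealSheafData.ideal_inf, Pi.inf_apply]
  letI := TopCat.Presheaf.algebra_section_stalk X.presheaf (U := V) ⟨x, hxV⟩
  haveI := hV.isLocalization_stalk ⟨x, hxV⟩
  exact IsLocalization.map_inf (hV.primeIdealOf ⟨x, hxV⟩).asIdeal.primeCompl (X.presheaf.stalk x) _ _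

theorem st_sup (I J : X.IdealSheafData) (x : X) :
    Goodman.st (I ⊔ J) x = Goodman.st I x ⊔ Goodman.st J x := by
  obtain ⟨V, hV, hxV, -⟩ := exists_isAffineOpen_mem_and_subset (show x ∈ (⊤ : X.Opens) from trivial)
  rw [Goodman.st_eq _ ⟨V, hV⟩ hxV, Goodman.st_eq _ ⟨V, hV⟩ hxV, Goodman.st_eq _ ⟨V, hV⟩ hxV,
    Scheme.IdealSheafData.ideal_sup, Pi.sup_apply]
  exact Ideal.map_sup _ _ _

theorem st_mono {I J : X.IdealSheafData} (h : I ≤ J) (x : X) : Goodman.st I x ≤ Goodman.st J x := by
  rintro _ ⟨v, rfl⟩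
  exact ⟨_, sval_incl h x v⟩

/-- The Mayer–Vietoris sequence of two ideal sheaves. -/
theorem exists_mv (A B P S : X.IdealSheafData) (hP : P = A ⊓ B) (hS : S = A ⊔ B) :
    ∃ (f : ClSub.idealMod P ⟶ ClSub.idealMod A ⊞ ClSub.idealMod B)
      (g : ClSub.idealMod A ⊞ ClSub.idealMod B ⟶ ClSub.idealMod S) (w : f ≫ g = 0),
      (ShortComplex.mk f g w).ShortExact := by
  have hPA : P ≤ A := hP ▸ inf_le_left
  have hPB : P ≤ B := hP ▸ inf_le_right
  have hAS : A ≤ S := hS ▸ le_sup_left
  have hBS : B ≤ S := hS ▸ le_sup_right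
  haveI hm : ∀ K : X.IdealSheafData, Mono (ClSub.idealModι K) :=
    fun K => inferInstanceAs (Mono (kernel.ι (ClSub.toSubscheme K)))
  let f := biprod.lift (idealIncl hPA) (-idealIncl hPB)
  let g := biprod.desc (idealIncl hAS) (idealIncl hBS)
  have w : f ≫ g = 0 := by
    rw [← cancel_mono (ClSub.idealModι S), biprod.lift_desc, Preadditive.add_comp, Preadditive.neg_comp,
      Preadditive.neg_comp, Category.assoc, Category.assoc, idealIncl_ι, idealIncl_ι, idealIncl_ι, idealIncl_ι,
      add_neg_cancel, zero_comp]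
  refine ⟨f, g, w, (OX.shortExact_iff _).2 fun x => ?_⟩
  let F := OX.stalk x
  haveI : F.Additive := inferInstance
  haveI : Mono (idealIncl hPA) := HodgeIndex.mono_idealIncl hPA
  haveI : Mono f := mono_of_mono_fac (show f ≫ biprod.fst = idealIncl hPA from biprod.lift_fst _ _)
  have hfst : ∀ a, F.map biprod.fst (F.map f a) = F.map (idealIncl hPA) a := fun a => by
    rw [← ConcreteCategory.comp_apply, ← F.map_comp, biprod.lift_fst]
  have hsnd : ∀ a, F.map biprod.snd (F.map f a) = -(F.map (idealIncl hPB) a) := fun a => by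
    rw [← ConcreteCategory.comp_apply, ← F.map_comp, biprod.lift_snd, F.map_neg]
    rfl
  have hdec : ∀ y : F.obj (ClSub.idealMod A ⊞ ClSub.idealMod B),
      y = F.map biprod.inl (F.map biprod.fst y) + F.map biprod.inr (F.map biprod.snd y) := fun y => by
    rw [← ConcreteCategory.comp_apply, ← ConcreteCategory.comp_apply, ← F.map_comp, ← F.map_comp]
    have h := congrArg (fun φ => F.map φ) (biprod.total (X := ClSub.idealMod A) (Y := ClSub.idealMod B))
    simp only [F.map_add, CategoryTheory.Functor.map_id] at h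
    exact (ConcreteCategory.congr_hom h y).symm
  have hg : ∀ a b, sval S x (F.map g (F.map biprod.inl a + F.map biprod.inr b)) = sval A x a + sval B x b := by
    intro a b
    rw [map_add, map_add, ← ConcreteCategory.comp_apply, ← ConcreteCategory.comp_apply, ← F.map_comp, ← F.map_comp,
      biprod.inl_desc, biprod.inr_desc, sval_incl, sval_incl]
  refine { exact := (ShortComplex.moduleCat_exact_iff _).2 fun y hy => ?_, mono_f := ?_, epi_g := ?_ }
  · change F.map g y = 0 at hy
    show ∃ z, F.map f z = y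
    rw [hdec y] at hy ⊢
    let a := F.map biprod.fst y
    let b := F.map biprod.snd y
    have h0 : sval A x a + sval B x b = 0 := by
      rw [← hg a b, hy, map_zero]
    have hm : sval A x a ∈ Goodman.st P x := by
      rw [hP, st_inf]
      refine ⟨LinearMap.mem_range_self _ a, ?_⟩
      rw [eq_neg_of_add_eq_zero_left h0, ← map_neg]
      exact LinearMap.mem_range_self _ _
    obtain ⟨z, hz⟩ := hm
    refine ⟨z, ?_⟩
    have ha : F.map (idealIncl hPA) z = a := OmegaBC.sval_injective A x ((sval_incl hPA x z).trans hz)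
    have hb : F.map (idealIncl hPB) z = -b := OmegaBC.sval_injective B x (by
      rw [sval_incl, map_neg, hz, eq_neg_of_add_eq_zero_left h0])
    rw [hdec (F.map f z), hfst, hsnd, ha, hb, neg_neg]
  · exact inferInstanceAs (Mono (F.map f))
  · refine (ModuleCat.epi_iff_surjective _).2 fun s => ?_
    have hs : sval S x s ∈ Goodman.st A x ⊔ Goodman.st B x := by
      rw [← st_sup, ← hS]
      exact LinearMap.mem_range_self _ s
    obtain ⟨_, ⟨a, rfl⟩, _, ⟨b, rfl⟩, hab⟩ := Submodule.mem_sup.1 hs
    exact ⟨F.map biprod.inl a + F.map biprod.inr b, OmegaBC.sval_injective S x ((hg a b).trans hab)⟩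

/-- The module of the product with an invertible ideal is the tensor product. -/
theorem nonempty_idealMod_mul_invertible {I J : X.IdealSheafData} (hJ : PicF.IsInvertible (ClSub.idealMod J)) :
    Nonempty (CohB1.tensorMod (ClSub.idealMod I) (ClSub.idealMod J) ≅ ClSub.idealMod (I * J)) := by
  haveI hm : ∀ K : X.IdealSheafData, Mono (ClSub.idealModι K) :=
    fun K => inferInstanceAs (Mono (kernel.ι (ClSub.toSubscheme K)))
  let g := ((DCoh.tensorBi (X := X)).obj (ClSub.idealMod I)).map (ClSub.idealModι J)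
  let e := Euler.tFUnitIso (ClSub.idealMod I)
  let f : CohB1.tensorMod (ClSub.idealMod I) (ClSub.idealMod J) ⟶ Coh.structureModule X :=
    g ≫ e.hom ≫ ClSub.idealModι I
  have main : ∀ x : X, Function.Injective (stalkLin f x) ∧
      LinearMap.range (stalkLin f x) = LinearMap.range (stalkLin (ClSub.idealModι (I * J)) x) := by
    intro x
    obtain ⟨tJ, htJ⟩ := Ref1.exists_gen_of_isInvertible hJ x
    let b := sval J x tJ
    have hgen : ∀ v : (ClSub.idealMod I).presheaf.stalk x,
        stalkLin f x (Ref1.tmulStalk _ _ x v tJ) =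
          b • stalkLin (ClSub.idealModι I) x (stalkLin e.hom x
            (Ref1.tmulStalk (ClSub.idealMod I) (Coh.structureModule X) x v (HomSh.unitStalk x 1))) := fun v => by
      rw [show stalkLin f x (Ref1.tmulStalk _ _ x v tJ) = _ from HodgeIndex.stalkLin_comp_apply g (e.hom ≫ ClSub.idealModι I) x _,
        HodgeIndex.stalkLin_comp_apply, show stalkLin g x (Ref1.tmulStalk _ _ x v tJ) = _ from Goodman.stalkLin_tensor_tmul _ _ x v tJ,
        Goodman.stalkLin_idealModι J x tJ, show HomSh.unitStalk x b = b • HomSh.unitStalk x 1 by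
          rw [← map_smul, smul_eq_mul, mul_one], map_smul, map_smul, map_smul]
      rfl
    let θ : (ClSub.idealMod I).presheaf.stalk x → (ClSub.idealMod I).presheaf.stalk x := fun v =>
      stalkLin e.hom x (Ref1.tmulStalk (ClSub.idealMod I) (Coh.structureModule X) x v (HomSh.unitStalk x 1))
    have hθ : Function.Bijective θ := by
      refine Function.Bijective.comp ?_ (TensorGen.bijective_tmulStalk _ _ (Ref1.gen_unitStalk x))
      exact (ConcreteCategory.isIso_iff_bijective ((OX.stalk x).map e.hom)).1 inferInstance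
    have hb0 : ∀ c : X.presheaf.stalk x, c * b = 0 → c = 0 := fun c hc => by
      have h' : c • tJ = (0 : X.presheaf.stalk x) • tJ := OmegaBC.sval_injective J x (by
        rw [zero_smul]
        exact ((sval J x).map_smul c tJ).trans (hc.trans (map_zero _).symm))
      exact htJ.1 h'
    constructor
    · intro p q hpq
      obtain ⟨v, rfl⟩ := (TensorGen.bijective_tmulStalk _ _ htJ).2 p
      obtain ⟨v', rfl⟩ := (TensorGen.bijective_tmulStalk _ _ htJ).2 q
      dsimp only at hpq ⊢
      rw [hgen, hgen, Goodman.stalkLin_idealModι, Goodman.stalkLin_idealModι, ← (HomSh.unitStalk x).map_smul, ← (HomSh.unitStalk x).map_smul,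
        (HomSh.unitStalk x).injective.eq_iff, smul_eq_mul, smul_eq_mul, ← sub_eq_zero, ← mul_sub, mul_comm] at hpq
      have := sub_eq_zero.1 (hb0 _ hpq)
      rw [hθ.1 (OmegaBC.sval_injective I x this)]
    · have hJx : Goodman.st J x = Ideal.span {b} := le_antisymm (by
        rintro _ ⟨w, rfl⟩
        obtain ⟨c, rfl⟩ := htJ.2 w
        exact Ideal.mem_span_singleton'.2 ⟨c, ((sval J x).map_smul c tJ).symm⟩)
        ((Ideal.span_singleton_le_iff_mem _).2 (LinearMap.mem_range_self _ tJ))
      rw [HodgeIndex.range_idealModι, Goodman.st_mul, hJx]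
      ext w
      constructor
      · rintro ⟨p, rfl⟩
        obtain ⟨v, rfl⟩ := (TensorGen.bijective_tmulStalk _ _ htJ).2 p
        dsimp only
        rw [hgen, Goodman.stalkLin_idealModι, ← (HomSh.unitStalk x).map_smul, smul_eq_mul, mul_comm]
        refine ⟨_, ?_, rfl⟩
        first
          | exact Ideal.mul_mem_mul (LinearMap.mem_range_self _ _) (Ideal.mem_span_singleton_self b)
          | exact Ideal.mul_mem_mul_rev (Ideal.mem_span_singleton_self b) (LinearMap.mem_range_self _ _)
          | exact Ideal.mul_mem_mul (Ideal.mem_span_singleton_self b) (LinearMap.mem_range_self _ _)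
      · rintro ⟨a, ha, rfl⟩
        obtain ⟨a', ⟨v', rfl⟩, rfl⟩ := Ideal.mem_mul_span_singleton.1 ha
        obtain ⟨v, rfl⟩ := hθ.2 v'
        refine ⟨Ref1.tmulStalk _ _ x v tJ, ?_⟩
        rw [hgen, Goodman.stalkLin_idealModι, ← (HomSh.unitStalk x).map_smul, smul_eq_mul, mul_comm]
        rfl
  exact HodgeIndex.nonempty_iso_of_range_eq f (ClSub.idealModι (I * J)) (hm _) (fun x => (main x).1) fun x => (main x).2

end GrothLib.IdealMV12
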